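import Mathlib
import Cfsg.Agent.Perm69.JordanPrime

/-!
# Elements of small support in multiply transitive groups, and the degrees six and nine
-/

namespace CfsgLib.Miller

open Equiv MulAction

variable {α : Type*} [Fintype α] [DecidableEq α] {G : Subgroup (Perm α)}

theorem exists_map_emb {m : ℕ} (hG : IsMultiplyPretransitive G α m) (a b : Fin m ↪ α) :
    ∃ g ∈ G, ∀ i, g (a i) = b i := by
  obtain ⟨⟨g, hg⟩, h⟩ := hG.exists_smul_eq a b
  exact ⟨g, hg, fun i => DFunLike.congr_fun h i⟩

theorem isPreprimitive_of_four (hG : IsMultiplyPretransitive G α 4) (h4 : 4 ≤ Fintype.card α) :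
    IsPreprimitive G α := by
  have h2 : IsMultiplyPretransitive G α 2 :=
    isMultiplyPretransitive_of_le (n := 4) (by norm_num) (by simpa using h4)
  exact isPreprimitive_of_is_two_pretransitive h2

/-- A double transposition in a four-transitive group yields a three-cycle. -/
theorem alt_of_double (hG : IsMultiplyPretransitive G α 4) (h5 : 5 ≤ Fintype.card α) {d : Perm α}
    (hd : d ∈ G) (hd2 : d * d = 1) (hsupp : d.support.card = 4) : alternatingGroup α ≤ G := by
  obtain ⟨a, ha⟩ : d.support.Nonempty := Finset.card_pos.1 (by omega)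
  have hda : d a ≠ a := Perm.mem_support.1 ha
  have hinv : ∀ x, d (d x) = x := fun x => by rw [← Perm.mul_apply, hd2]; rfl
  have hb : d a ∈ d.support := Perm.apply_mem_support.2 ha
  have hcard : ((d.support.erase a).erase (d a)).card = 2 := by
    rw [Finset.card_erase_of_mem (Finset.mem_erase.2 ⟨hda, hb⟩), Finset.card_erase_of_mem ha, hsupp]
  obtain ⟨c, hc⟩ := Finset.card_pos.1 (show 0 < ((d.support.erase a).erase (d a)).card by omega)
  simp only [Finset.mem_erase] at hc
  obtain ⟨hcb, hca, hcs⟩ := hc
  have hdc : d c ≠ c := Perm.mem_support.1 hcs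
  have hea : d c ≠ a := fun h => hcb (by rw [← h, hinv])
  have heb : d c ≠ d a := fun h => hca (d.injective h)
  have hset : d.support = {a, d a, c, d c} := by
    symm
    apply Finset.eq_of_subset_of_card_le
    · intro x hx
      simp only [Finset.mem_insert, Finset.mem_singleton] at hx
      rcases hx with rfl | rfl | rfl | rfl
      exacts [ha, hb, hcs, Perm.apply_mem_support.2 hcs]
    · rw [hsupp, Finset.card_insert_of_notMem (by simp [Ne.symm hda, Ne.symm hca, Ne.symm hea]),
        Finset.card_insert_of_notMem (by simp [Ne.symm hcb, Ne.symm heb]),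
        Finset.card_insert_of_notMem (by simp [Ne.symm hdc]), Finset.card_singleton]
  have hd' : d = swap a (d a) * swap c (d c) := by
    ext x
    by_cases hx : x ∈ d.support
    · rw [hset] at hx
      simp only [Finset.mem_insert, Finset.mem_singleton] at hx
      rcases hx with rfl | rfl | rfl | rfl
      · rw [Perm.mul_apply, swap_apply_of_ne_of_ne (Ne.symm hca) (Ne.symm hea), swap_apply_left]
      · rw [Perm.mul_apply, swap_apply_of_ne_of_ne (Ne.symm hcb) (Ne.symm heb), swap_apply_right, hinv]
      · rw [Perm.mul_apply, swap_apply_left, swap_apply_of_ne_of_ne hea heb]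
      · rw [Perm.mul_apply, swap_apply_right, swap_apply_of_ne_of_ne hca hcb, hinv]
    · rw [Perm.notMem_support.1 hx]
      rw [hset] at hx
      simp only [Finset.mem_insert, Finset.mem_singleton, not_or] at hx
      rw [Perm.mul_apply, swap_apply_of_ne_of_ne hx.2.2.1 hx.2.2.2, swap_apply_of_ne_of_ne hx.1 hx.2.1]
  obtain ⟨f, -, hf⟩ := Finset.exists_mem_notMem_of_card_lt_card
    (show d.support.card < (Finset.univ : Finset α).card by simp; omega)
  rw [hset] at hf
  simp only [Finset.mem_insert, Finset.mem_singleton, not_or] at hf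
  obtain ⟨hfa, hfb, hfc, hfe⟩ := hf
  let u : Fin 4 ↪ α := ⟨![a, d a, c, d c], by
    intro i j
    fin_cases i <;> fin_cases j <;>
      simp [hda, Ne.symm hda, hca, Ne.symm hca, hea, Ne.symm hea, hcb, Ne.symm hcb, heb, Ne.symm heb,
        hdc, Ne.symm hdc]⟩
  let v : Fin 4 ↪ α := ⟨![a, d a, c, f], by
    intro i j
    fin_cases i <;> fin_cases j <;>
      simp [hda, Ne.symm hda, hca, Ne.symm hca, hcb, Ne.symm hcb, hfa, Ne.symm hfa, hfb, Ne.symm hfb,
        hfc, Ne.symm hfc]⟩
  obtain ⟨g, hg, hgu⟩ := exists_map_emb hG u v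
  have h0 : g a = a := hgu 0
  have h1 : g (d a) = d a := hgu 1
  have h2 : g c = c := hgu 2
  have h3 : g (d c) = f := hgu 3
  have hconj : g * d * g⁻¹ = swap a (d a) * swap c f := by
    rw [mul_inv_eq_iff_eq_mul]
    conv_lhs => rw [hd']
    rw [← mul_assoc, Equiv.mul_swap_eq_swap_mul g a, h0, h1, mul_assoc,
      Equiv.mul_swap_eq_swap_mul g c, h2, h3, ← mul_assoc]
  have hmem : d * (g * d * g⁻¹) ∈ G := G.mul_mem hd (G.mul_mem (G.mul_mem hg hd) (G.inv_mem hg))
  have hprod : d * (g * d * g⁻¹) = swap c (d c) * swap c f := by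
    rw [hconj]
    nth_rewrite 1 [hd']
    have hcom : Commute (swap a (d a)) (swap c (d c)) := (Perm.disjoint_iff_eq_or_eq.2 fun x => by
      by_cases hx : x = a ∨ x = d a
      · right
        rcases hx with rfl | rfl
        · exact swap_apply_of_ne_of_ne (Ne.symm hca) (Ne.symm hea)
        · exact swap_apply_of_ne_of_ne (Ne.symm hcb) (Ne.symm heb)
      · push Not at hx
        left
        exact swap_apply_of_ne_of_ne hx.1 hx.2).commute
    rw [hcom.eq, mul_assoc (swap c (d c)), swap_mul_self_mul]
  refine Perm.alternatingGroup_le_of_isPreprimitive_of_isThreeCycle_mem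
    (isPreprimitive_of_four hG (by omega)) (g := d * (g * d * g⁻¹)) ?_ hmem
  rw [hprod]
  exact Perm.isThreeCycle_swap_mul_swap_same (Ne.symm hdc) (Ne.symm hfc) (Ne.symm hfe)

/-- An element of prime order moving at most five points. -/
theorem alt_of_small_support (hG : IsMultiplyPretransitive G α 4) (h8 : 8 ≤ Fintype.card α)
    {g : Perm α} (hg : g ∈ G) (hq : (orderOf g).Prime) (hsupp : g.support.card ≤ 5) :
    alternatingGroup α ≤ G := by
  have hprim := isPreprimitive_of_four hG (by omega)
  obtain ⟨m, hm⟩ := Perm.cycleType_prime_order hq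
  have hc : g.support.card = (m + 1) * orderOf g := by
    rw [← g.sum_cycleType, hm, Multiset.sum_replicate, smul_eq_mul]
  by_cases hm0 : m = 0
  · refine CfsgLib.JordanPrime.alternatingGroup_le_of_prime_cycle hprim hq ?_ ?_ ?_ hg
    · rw [hm0, zero_add, one_mul] at hc
      omega
    · rw [← Perm.card_cycleType_eq_one, hm, hm0]; simp
    · rw [hc, hm0, zero_add, one_mul]
  · have h2 := hq.two_le
    have : orderOf g = 2 ∧ m = 1 := by
      constructor <;> nlinarith [Nat.pos_of_ne_zero hm0]
    refine alt_of_double hG (by omega) hg ?_ (by rw [hc, this.1, this.2])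
    rw [← pow_two, ← this.1, pow_orderOf_eq_one]

theorem card_eq_mul_stabilizer {m : ℕ} (hG : IsMultiplyPretransitive G α m) (x : Fin m ↪ α) :
    Nat.card G = (Fintype.card α).descFactorial m * Nat.card (stabilizer G x) := by
  have : IsPretransitive G (Fin m ↪ α) := hG
  rw [← Subgroup.card_mul_index (stabilizer G x), mul_comm]
  congr 1
  rw [MulAction.index_stabilizer, @MulAction.orbit_eq_univ _ _ _ _ this x, Set.ncard_univ,
    Nat.card_eq_fintype_card, Fintype.card_embedding_eq,
    Fintype.card_fin]

/-- A four-transitive group of degree six contains the alternating group. -/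
theorem alt_six (hG : IsMultiplyPretransitive G α 4) (hn : Fintype.card α = 6) :
    alternatingGroup α ≤ G := by
  obtain ⟨x⟩ := Function.Embedding.nonempty_of_card_le (α := Fin 4) (β := α) (by simp [hn])
  have h := card_eq_mul_stabilizer hG x
  rw [hn] at h
  apply Perm.alternatingGroup_le_of_index_le_two
  have h2 := G.index_mul_card
  rw [Nat.card_perm, Nat.card_eq_fintype_card (α := α), hn, show Nat.card G = 360 * Nat.card (stabilizer G x)
    from h.trans (by norm_num [Nat.descFactorial]), show Nat.factorial 6 = 720 from rfl] at h2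
  have hpos : 0 < Nat.card (stabilizer G x) := Nat.card_pos
  nlinarith

/-- A four-transitive group of degree nine contains the alternating group. -/
theorem alt_nine (hG : IsMultiplyPretransitive G α 4) (hn : Fintype.card α = 9) :
    alternatingGroup α ≤ G := by
  obtain ⟨x⟩ := Function.Embedding.nonempty_of_card_le (α := Fin 4) (β := α) (by simp [hn])
  have hcard := card_eq_mul_stabilizer hG x
  rw [hn, show Nat.descFactorial 9 4 = 3024 from rfl] at hcard
  by_cases hR : Nat.card (stabilizer G x) = 1
  swap
  · obtain ⟨q, hq, hqd⟩ := Nat.exists_prime_and_dvd hR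
    have := Fact.mk hq
    obtain ⟨s, hs⟩ := exists_prime_orderOf_dvd_card' (G := stabilizer G x) q hqd
    have ho : orderOf ((s : G) : Perm α) = q := by
      rw [Subgroup.orderOf_coe, Subgroup.orderOf_coe, hs]
    refine alt_of_small_support hG (by omega) (s : G).2 (ho ▸ hq) ?_
    have hsub : ((s : G) : Perm α).support ⊆ Finset.univ \ Finset.univ.map x := by
      intro a ha
      simp only [Finset.mem_sdiff, Finset.mem_univ, true_and, Finset.mem_map, not_exists]
      intro i hi
      apply Perm.mem_support.1 ha
      rw [← hi]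
      exact DFunLike.congr_fun s.2 i
    refine (Finset.card_le_card hsub).trans (le_of_eq ?_)
    rw [Finset.card_sdiff_of_subset (Finset.subset_univ _), Finset.card_univ, Finset.card_map,
      Finset.card_univ, hn, Fintype.card_fin]
  rw [hR, mul_one] at hcard
  have : Fact (Nat.Prime 7) := ⟨by norm_num⟩
  obtain ⟨C⟩ := (inferInstance : Nonempty (Sylow 7 G))
  have hC : Nat.card (C : Subgroup G) = 7 := by
    rw [C.card_eq_multiplicity, hcard]
    have : (Nat.factorization 3024) 7 = 1 := by
      rw [show (3024 : ℕ) = 7 * 432 from rfl, Nat.factorization_mul (by norm_num) (by norm_num),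
        Finsupp.add_apply, Nat.Prime.factorization_self (by norm_num),
        Nat.factorization_eq_zero_of_not_dvd (by norm_num : ¬ 7 ∣ 432)]
    rw [this, pow_one]
  obtain ⟨y, hy⟩ := exists_prime_orderOf_dvd_card' (G := (C : Subgroup G)) 7 (by rw [hC])
  set g : Perm α := ((y : G) : Perm α) with hg
  have hgo : orderOf g = 7 := by rw [hg, Subgroup.orderOf_coe, Subgroup.orderOf_coe, hy]
  have hgc : g.IsCycle := Perm.isCycle_of_prime_order' (by rw [hgo]; norm_num) (by omega)
  have hgs : g.support.card = 7 := by rw [← hgc.orderOf, hgo]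
  by_contra halt
  have hcen : ∀ c : G, c ∈ Subgroup.centralizer ((C : Subgroup G) : Set G) → c ^ 7 = 1 := by
    intro c hc
    by_contra hne
    apply halt
    have hcomm : Commute (c : Perm α) g := by
      have := Subgroup.mem_centralizer_iff.1 hc (y : G) y.2
      exact (congrArg Subtype.val this).symm
    have hsub : ((c : Perm α) ^ 7).support ⊆ g.supportᶜ := by
      intro a ha
      rw [Finset.mem_compl]
      intro hag
      have := CfsgLib.JordanPrime.pow_orderOf_apply_of_commute hgc hcomm (Perm.mem_support.1 hag)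
      rw [hgo] at this
      exact Perm.mem_support.1 ha this
    have h2 : ((c : Perm α) ^ 7).support.card ≤ 2 := by
      refine (Finset.card_le_card hsub).trans ?_
      rw [Finset.card_compl, hn, hgs]
    have hne' : (c : Perm α) ^ 7 ≠ 1 := fun h => hne (Subtype.ext (by rw [SubgroupClass.coe_pow, h]; rfl))
    have h3 : ((c : Perm α) ^ 7).support.card ≠ 0 := fun h =>
      hne' (Perm.support_eq_empty_iff.1 (Finset.card_eq_zero.1 h))
    have h4 := Perm.card_support_ne_one ((c : Perm α) ^ 7)
    rw [Perm.subgroup_eq_top_of_isPreprimitive_of_isSwap_mem (isPreprimitive_of_four hG (by omega)) _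
      (Perm.card_support_eq_two.1 (by omega)) (G.pow_mem c.2 7)]
    exact le_top
  have hZp : IsPGroup 7 (Subgroup.centralizer ((C : Subgroup G) : Set G)) := fun c =>
    ⟨1, Subtype.ext (by rw [pow_one, SubgroupClass.coe_pow]; exact hcen c c.2)⟩
  have hCle : (C : Subgroup G) ≤ Subgroup.centralizer ((C : Subgroup G) : Set G) := by
    have : IsCyclic (C : Subgroup G) := isCyclic_of_prime_card hC
    exact Subgroup.le_centralizer _
  have hZeq := C.is_maximal' hZp hCle
  set N := Subgroup.normalizer ((C : Subgroup G) : Set G) with hN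
  have hd : Nat.card N ∣ 7 * 6 := by
    let φ := (C : Subgroup G).normalizerMonoidHom
    rw [← Subgroup.card_mul_index φ.ker, Subgroup.index_ker]
    refine mul_dvd_mul ?_ ?_
    · rw [show φ.ker = _ from Subgroup.normalizerMonoidHom_ker _, hZeq,
        Nat.card_congr (Subgroup.subgroupOfEquivOfLe Subgroup.le_normalizer).toEquiv, hC]
    · have : IsCyclic (C : Subgroup G) := isCyclic_of_prime_card hC
      have h6 : Nat.card (MulAut (C : Subgroup G)) = 6 := by
        rw [Nat.card_congr (IsCyclic.mulAutMulEquiv (G := (C : Subgroup G))).toEquiv, hC, Nat.card_units,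
          Nat.card_zmod]
      rw [← h6]
      exact Subgroup.card_subgroup_dvd_card _
  have hdvd : 7 ∣ Nat.card N := hC ▸ Subgroup.card_dvd_of_le Subgroup.le_normalizer
  have hmod := card_sylow_modEq_one 7 G
  rw [Sylow.card_eq_index_normalizer C] at hmod
  have hidx := N.card_mul_index
  rw [hcard] at hidx
  obtain ⟨d, hd'⟩ := hdvd
  rw [hd'] at hidx
  rw [hd', Nat.mul_dvd_mul_iff_left (by norm_num)] at hd
  have hd6 := Nat.le_of_dvd (by norm_num) hd
  unfold Nat.ModEq at hmod
  change N.index % 7 = 1 % 7 at hmod
  interval_cases d <;> norm_num at hd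
  all_goals norm_num at hidx hmod ⊢
  all_goals omega

end CfsgLib.Miller
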