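import Mathlib
import Cfsg.Agent.Miller.Small

/-!
# Miller's bound on the transitivity of groups of degree `k p + r`
-/

namespace CfsgLib.Miller

open Equiv MulAction
open scoped Pointwise commutatorElement

variable {α : Type*} [Fintype α] [DecidableEq α]

/-- The standing data: a `p`-subgroup with fixed points the `r` chosen points, all other orbits of
length `p`. -/
structure Datum (G : Subgroup (Perm α)) (p r : ℕ) (x : Fin r ↪ α) (P : Subgroup (Perm α)) : Prop where
  le : P ≤ G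
  isP : IsPGroup p P
  fixes : ∀ g ∈ P, ∀ i, g (x i) = x i
  orbit_card : ∀ e, e ∉ Set.range x → (orbit P e).ncard = p
  lift : ∀ σ : Perm (Fin r), ∃ g ∈ G ⊓ Subgroup.normalizer (P : Set (Perm α)), ∀ i, g (x i) = x (σ i)

theorem exists_datum {G : Subgroup (Perm α)} {k p r : ℕ} (hp : p.Prime) (hk : 1 ≤ k) (hpk : k < p)
    (hn : Fintype.card α = k * p + r) (hG : IsMultiplyPretransitive G α (r + 1)) (x : Fin r ↪ α) :
    ∃ P, Datum G p r x P := by
  classical
  have := Fact.mk hp
  let S : Subgroup (Perm α) :=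
    { carrier := {g | g ∈ G ∧ ∀ i, g (x i) = x i}
      one_mem' := ⟨G.one_mem, fun _ => rfl⟩
      mul_mem' := fun {a b} ha hb => ⟨G.mul_mem ha.1 hb.1, fun i => by
        rw [Perm.mul_apply, hb.2, ha.2]⟩
      inv_mem' := fun {a} ha => ⟨G.inv_mem ha.1, fun i => by
        rw [Perm.inv_eq_iff_eq]; exact (ha.2 i).symm⟩ }
  have horb : ∀ e, e ∉ Set.range x → orbit S e = (Set.range x)ᶜ := by
    intro e he
    ext f
    constructor
    · rintro ⟨g, rfl⟩ ⟨i, hi⟩
      exact he ⟨i, (g : Perm α).injective ((g.2.2 i).trans hi)⟩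
    · intro hf
      obtain ⟨g, hg, hgx⟩ := exists_map_emb hG (Fin.Embedding.snoc x he) (Fin.Embedding.snoc x hf)
      refine ⟨⟨g, hg, fun i => ?_⟩, ?_⟩
      · have := hgx i.castSucc
        rwa [Fin.Embedding.snoc_castSucc, Fin.Embedding.snoc_castSucc] at this
      · have := hgx (Fin.last r)
        rwa [Fin.Embedding.snoc_last, Fin.Embedding.snoc_last] at this
  obtain ⟨Ps⟩ := (inferInstance : Nonempty (Sylow p S))
  let P : Subgroup (Perm α) := (Ps : Subgroup S).map S.subtype
  have hPS : P ≤ S := Subgroup.map_subtype_le _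
  have hPp : IsPGroup p P := Ps.isPGroup'.map _
  refine ⟨P, fun g hg => (hPS hg).1, hPp, fun g hg => (hPS hg).2, fun e he => ?_, fun σ => ?_⟩
  · obtain ⟨j, hj⟩ := hPp.card_orbit e
    rw [Nat.card_coe_set_eq] at hj
    have hle : (orbit P e).ncard ≤ k * p := by
      have hsub : orbit P e ⊆ orbit S e := by
        rintro _ ⟨g, rfl⟩
        exact ⟨⟨g, hPS g.2⟩, rfl⟩
      refine (Set.ncard_le_ncard hsub (Set.toFinite _)).trans (le_of_eq ?_)
      rw [horb e he, Set.ncard_compl, Set.ncard_range_of_injective x.injective,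
        Nat.card_eq_fintype_card, Nat.card_eq_fintype_card, Fintype.card_fin, hn, Nat.add_sub_cancel]
    have hj0 : j ≠ 0 := by
      rintro rfl
      rw [pow_zero, Set.ncard_eq_one] at hj
      obtain ⟨a, ha⟩ := hj
      have hfix : (Ps : Subgroup S) ≤ stabilizer S e := by
        intro g hg
        have h1 : (g : Perm α) e ∈ orbit P e := ⟨⟨g, g, hg, rfl⟩, rfl⟩
        have h2 : e ∈ orbit P e := mem_orbit_self e
        rw [ha] at h1 h2
        exact (Set.mem_singleton_iff.1 h1).trans (Set.mem_singleton_iff.1 h2).symm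
      refine Ps.not_dvd_index (dvd_trans ?_ (Subgroup.index_dvd_of_le hfix))
      rw [MulAction.index_stabilizer, horb e he, Set.ncard_compl,
        Set.ncard_range_of_injective x.injective, Nat.card_eq_fintype_card, Nat.card_eq_fintype_card,
        Fintype.card_fin, hn, Nat.add_sub_cancel]
      exact dvd_mul_left p k
    have hj1 : j < 2 := by
      by_contra h
      have h1 : p ^ 2 ≤ k * p := (Nat.pow_le_pow_right hp.pos (by omega : 2 ≤ j)).trans (hj ▸ hle)
      nlinarith [hp.pos]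
    rw [hj, show j = 1 by omega, pow_one]
  · have hr : IsMultiplyPretransitive G α r := by
      refine isMultiplyPretransitive_of_le (n := r + 1) (by omega) ?_
      rw [Nat.card_eq_fintype_card, hn]
      have : 0 < k * p := Nat.mul_pos hk hp.pos
      omega
    obtain ⟨g, hg, hgx⟩ := exists_map_emb hr x (σ.toEmbedding.trans x)
    have hgx' : ∀ i, g (x i) = x (σ i) := hgx
    have hnorm : ∀ s ∈ S, g * s * g⁻¹ ∈ S := by
      refine fun s hs => ⟨G.mul_mem (G.mul_mem hg hs.1) (G.inv_mem hg), fun i => ?_⟩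
      have h1 : g⁻¹ (x i) = x (σ.symm i) := by
        rw [Perm.inv_eq_iff_eq, hgx', Equiv.apply_symm_apply]
      rw [Perm.mul_apply, Perm.mul_apply, h1, hs.2, hgx', Equiv.apply_symm_apply]
    set P' := P.map (MulAut.conj g).toMonoidHom with hP'
    have hP'S : P' ≤ S := by
      rintro _ ⟨s, hs, rfl⟩
      exact hnorm s (hPS hs)
    have hcard : Nat.card (P'.subgroupOf S) = Nat.card (Ps : Subgroup S) := by
      rw [Nat.card_congr (Subgroup.subgroupOfEquivOfLe hP'S).toEquiv, hP',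
        Subgroup.card_map_of_injective (MulAut.conj g).injective,
        Subgroup.card_map_of_injective S.subtype_injective]
    let T : Sylow p S := Sylow.ofCard (P'.subgroupOf S) (hcard.trans Ps.card_eq_multiplicity)
    obtain ⟨s, hs⟩ := MulAction.exists_smul_eq S T Ps
    refine ⟨(s : Perm α) * g, ⟨G.mul_mem s.2.1 hg, ?_⟩, fun i => ?_⟩
    · refine Subgroup.mem_normalizer_iff_map_conj_eq.2 ?_
      refine Subgroup.eq_of_le_of_card_ge ?_
        (Subgroup.card_map_of_injective (MulAut.conj ((s : Perm α) * g)).injective).ge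
      rintro _ ⟨y, hy, rfl⟩
      have hy' : g * y * g⁻¹ ∈ P' := ⟨y, hy, rfl⟩
      have hmem : s * ⟨_, hP'S hy'⟩ * s⁻¹ ∈ ((s • T : Sylow p S) : Subgroup S) := by
        rw [Sylow.coe_subgroup_smul]
        exact ⟨⟨_, hP'S hy'⟩, hy', rfl⟩
      rw [hs] at hmem
      refine ⟨_, hmem, ?_⟩
      simp [mul_assoc]
    · rw [Perm.mul_apply, hgx', s.2.2]

variable {G : Subgroup (Perm α)} {p r : ℕ} {x : Fin r ↪ α} {P : Subgroup (Perm α)}

/-- `u` and `v` agree on a set. -/
def Agree (O : Set α) (u v : Perm α) : Prop := ∀ z ∈ O, u z = v z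

namespace Datum

variable (D : Datum G p r x P)
include D

theorem mem_range_iff (hp : p.Prime) {e : α} : e ∈ Set.range x ↔ ∀ g ∈ P, g e = e := by
  refine ⟨fun ⟨i, hi⟩ g hg => hi ▸ D.fixes g hg i, fun h => by_contra fun he => ?_⟩
  have h1 : orbit P e = {e} := Set.eq_singleton_iff_unique_mem.2
    ⟨mem_orbit_self e, by rintro _ ⟨g, rfl⟩; exact h g g.2⟩
  have := D.orbit_card e he
  rw [h1, Set.ncard_singleton] at this
  exact hp.one_lt.ne this

theorem apply_mem_orbit {g : Perm α} (hg : g ∈ P) (e : α) : g e ∈ orbit P e := ⟨⟨g, hg⟩, rfl⟩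

theorem exists_moving (hp : p.Prime) {e : α} (he : e ∉ Set.range x) : ∃ y ∈ P, y e ≠ e := by
  by_contra! h
  exact he ((D.mem_range_iff hp).2 h)

theorem stab_normal (hp : p.Prime) {e : α} (he : e ∉ Set.range x) : (stabilizer P e).Normal := by
  have := Fact.mk hp
  have := D.isP.isNilpotent
  have hidx : (stabilizer P e).index = p := by rw [index_stabilizer, D.orbit_card e he]
  refine Subgroup.NormalizerCondition.normal_of_coatom _ Group.normalizerCondition_of_isNilpotent ⟨?_, ?_⟩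
  · intro h
    rw [h, Subgroup.index_top] at hidx
    exact hp.one_lt.ne hidx
  · intro K hK
    have hmul := Subgroup.relIndex_mul_index hK.le
    rw [hidx] at hmul
    rcases hp.eq_one_or_self_of_dvd _ (Dvd.intro _ hmul) with h | h
    · exact absurd (Subgroup.relIndex_eq_one.1 h) hK.not_ge
    · rw [h] at hmul
      exact Subgroup.index_eq_one.1 (Nat.eq_of_mul_eq_mul_left hp.pos (by rw [hmul, mul_one]))

/-- fixing one point of an orbit means fixing all of it -/
theorem fix_orbit (hp : p.Prime) {e : α} (he : e ∉ Set.range x) {g : Perm α} (hg : g ∈ P)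
    (hge : g e = e) : Agree (orbit P e) g 1 := by
  rintro _ ⟨q, rfl⟩
  have h := (D.stab_normal hp he).conj_mem ⟨g, hg⟩ (show (⟨g, hg⟩ : P) • e = e from hge) q⁻¹
  have h' : ((q : Perm α)⁻¹ * g * (q : Perm α)⁻¹⁻¹) e = e := h
  rw [inv_inv, mul_assoc, Perm.mul_apply, Perm.mul_apply, Perm.inv_eq_iff_eq] at h'
  exact h'

theorem apply_mem_orbit_of {e z : α} (hz : z ∈ orbit P e) {g : Perm α} (hg : g ∈ P) :
    g z ∈ orbit P e := by
  obtain ⟨q, rfl⟩ := hz
  exact ⟨⟨g, hg⟩ * q, mul_smul _ _ _⟩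

/-- everything is a power of `y` on an orbit moved by `y` -/
theorem exists_pow_agree (hp : p.Prime) {e : α} (he : e ∉ Set.range x) {y : Perm α} (hy : y ∈ P)
    (hye : y e ≠ e) {g : Perm α} (hg : g ∈ P) : ∃ i : ℕ, Agree (orbit P e) g (y ^ i) := by
  have := Fact.mk hp
  set T := stabilizer P e with hT
  have hTn : T.Normal := D.stab_normal hp he
  have hq : Nat.card (P ⧸ T) = p := by rw [← Subgroup.index_eq_card, hT, index_stabilizer, D.orbit_card e he]
  have hne : (QuotientGroup.mk ⟨y, hy⟩ : P ⧸ T) ≠ 1 := fun h => hye ((QuotientGroup.eq_one_iff _).1 h)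
  have hmem : (QuotientGroup.mk ⟨g, hg⟩ : P ⧸ T) ∈
      Submonoid.powers (QuotientGroup.mk ⟨y, hy⟩ : P ⧸ T) :=
    mem_powers_of_prime_card hq hne
  obtain ⟨i, hi⟩ := hmem
  refine ⟨i, fun z hz => ?_⟩
  change (QuotientGroup.mk ⟨y, hy⟩ : P ⧸ T) ^ i = _ at hi
  rw [← QuotientGroup.mk_pow, QuotientGroup.eq] at hi
  have h1 : ((y ^ i)⁻¹ * g) e = e := hi
  have h2 := D.fix_orbit hp he (P.mul_mem (P.inv_mem (P.pow_mem hy i)) hg) h1 z hz
  rw [Perm.mul_apply, Perm.inv_eq_iff_eq] at h2
  exact h2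

theorem pow_prime_apply (hp : p.Prime) {e : α} (he : e ∉ Set.range x) {y : Perm α} (hy : y ∈ P) :
    (y ^ p) e = e := by
  have := Fact.mk hp
  have := D.stab_normal hp he
  have hq : Nat.card (P ⧸ stabilizer P e) = p := by
    rw [← Subgroup.index_eq_card, index_stabilizer, D.orbit_card e he]
  have h : (QuotientGroup.mk ⟨y, hy⟩ : P ⧸ stabilizer P e) ^ p = 1 := by
    rw [← hq]; exact pow_card_eq_one'
  rw [← QuotientGroup.mk_pow, QuotientGroup.eq_one_iff] at h
  exact h

theorem pow_prime_eq_one (hp : p.Prime) {y : Perm α} (hy : y ∈ P) : y ^ p = 1 := by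
  ext e
  by_cases he : e ∈ Set.range x
  · exact (D.mem_range_iff hp).1 he _ (P.pow_mem hy p)
  · exact D.pow_prime_apply hp he hy

theorem period_dvd (hp : p.Prime) {e : α} {y : Perm α} (hy : y ∈ P) (hye : y e ≠ e) {i : ℕ}
    (h : (y ^ i) e = e) : p ∣ i := by
  by_contra hd
  obtain ⟨j, hj⟩ := exists_pow_eq_self_of_coprime (x := y) (n := i) (by
    rw [orderOf_eq_prime (hp := Fact.mk hp) (D.pow_prime_eq_one hp hy) (fun h1 => hye (by rw [h1]; rfl))]
    exact ((hp.coprime_iff_not_dvd).2 hd).symm)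
  apply hye
  rw [← hj]
  exact Perm.pow_apply_eq_self_of_apply_eq_self h j

theorem modEq_of_pow_apply_eq (hp : p.Prime) {e : α} {y : Perm α} (hy : y ∈ P) (hye : y e ≠ e)
    {i j : ℕ} (h : (y ^ i) e = (y ^ j) e) : i ≡ j [MOD p] := by
  rcases le_total i j with hij | hij
  · rw [Nat.modEq_iff_dvd' hij]
    refine D.period_dvd hp hy hye ?_
    rw [← Nat.add_sub_cancel' hij, pow_add, Perm.mul_apply] at h
    exact ((y ^ i).injective h).symm
  · refine Nat.ModEq.symm ?_
    rw [Nat.modEq_iff_dvd' hij]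
    refine D.period_dvd hp hy hye ?_
    rw [← Nat.add_sub_cancel' hij, pow_add, Perm.mul_apply] at h
    exact (y ^ j).injective h

theorem pow_eq_of_modEq (hp : p.Prime) {y : Perm α} (hy : y ∈ P) {i j : ℕ} (h : i ≡ j [MOD p]) :
    y ^ i = y ^ j := by
  rw [pow_eq_pow_mod i (D.pow_prime_eq_one hp hy), pow_eq_pow_mod j (D.pow_prime_eq_one hp hy), h]

theorem commute (hp : p.Prime) {u v : Perm α} (hu : u ∈ P) (hv : v ∈ P) : Commute u v := by
  ext e
  by_cases he : e ∈ Set.range x
  · rw [(D.mem_range_iff hp).1 he _ (P.mul_mem hu hv), (D.mem_range_iff hp).1 he _ (P.mul_mem hv hu)]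
  obtain ⟨y, hy, hye⟩ := D.exists_moving hp he
  obtain ⟨i, hi⟩ := D.exists_pow_agree hp he hy hye hu
  obtain ⟨j, hj⟩ := D.exists_pow_agree hp he hy hye hv
  rw [Perm.mul_apply, Perm.mul_apply, hj e (mem_orbit_self e), hi e (mem_orbit_self e),
    hi _ (D.apply_mem_orbit (P.pow_mem hy j) e), hj _ (D.apply_mem_orbit (P.pow_mem hy i) e),
    ← Perm.mul_apply, ← Perm.mul_apply, ← pow_add, ← pow_add, Nat.add_comm]

/-- `g` acts as the scalar `a` on the orbit of `e` -/
theorem exists_scalar (hp : p.Prime) {e : α} (he : e ∉ Set.range x) {g : Perm α}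
    (hgN : g ∈ Subgroup.normalizer (P : Set (Perm α))) :
    ∃ a : ℕ, ∀ (hgO : ∀ z ∈ orbit P e, g z ∈ orbit P e), ∀ u ∈ P,
      Agree (orbit P e) (g * u * g⁻¹) (u ^ a) := by
  obtain ⟨y, hy, hye⟩ := D.exists_moving hp he
  have hconj : g * y * g⁻¹ ∈ P := (Subgroup.mem_normalizer_iff.1 hgN y).1 hy
  obtain ⟨a, ha⟩ := D.exists_pow_agree hp he hy hye hconj
  refine ⟨a, fun hgO u hu => ?_⟩
  have hpowAgree : ∀ (v w : Perm α), w ∈ P → Agree (orbit P e) v w → ∀ n : ℕ,
      Agree (orbit P e) (v ^ n) (w ^ n) := by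
    intro v w hw h n
    induction n with
    | zero => intro z _; rfl
    | succ n ih =>
      intro z hz
      rw [pow_succ, pow_succ, Perm.mul_apply, Perm.mul_apply, h z hz]
      exact ih _ (D.apply_mem_orbit_of hz hw)
  obtain ⟨i, hi⟩ := D.exists_pow_agree hp he hy hye hu
  intro z hz
  have hginv : g⁻¹ z ∈ orbit P e := by
    have hmaps : Set.MapsTo g (orbit P e) (orbit P e) := hgO
    have hbij : Set.BijOn g (orbit P e) (orbit P e) :=
      (Set.toFinite _).injOn_iff_bijOn_of_mapsTo hmaps |>.1 g.injective.injOn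
    obtain ⟨w, hw, hwz⟩ := hbij.surjOn hz
    rw [← hwz]
    simpa using hw
  calc (g * u * g⁻¹) z = g (u (g⁻¹ z)) := rfl
    _ = g ((y ^ i) (g⁻¹ z)) := by rw [hi _ hginv]
    _ = ((g * y * g⁻¹) ^ i) z := by rw [conj_pow]; rfl
    _ = ((y ^ a) ^ i) z := hpowAgree _ _ (P.pow_mem hy a) ha i z hz
    _ = ((y ^ i) ^ a) z := by rw [← pow_mul, ← pow_mul, mul_comm]
    _ = (u ^ a) z := (hpowAgree u (y ^ i) (P.pow_mem hy i) hi a z hz).symm

omit D in
/-- `g` maps every orbit of `P` to itself. -/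
def FixesOrbits (P : Subgroup (Perm α)) (x : Fin r ↪ α) (g : Perm α) : Prop :=
  ∀ e, e ∉ Set.range x → g e ∈ orbit P e

theorem fixesOrbits_mem_orbit {g : Perm α} (hg : FixesOrbits P x g) {e : α} (he : e ∉ Set.range x)
    (hp : p.Prime) : ∀ z ∈ orbit P e, g z ∈ orbit P e := by
  intro z hz
  have hz' : z ∉ Set.range x := by
    intro h
    have hmem : e ∈ orbit P z := by rw [orbit_eq_iff.2 hz]; exact mem_orbit_self e
    obtain ⟨q, hq⟩ := hmem
    have h2 : (q : Perm α) z = z := (D.mem_range_iff hp).1 h q q.2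
    exact he ((hq.symm.trans h2).symm ▸ h)
  rw [← orbit_eq_iff.2 hz]
  exact hg z hz'

/-- The commutator of two orbit preserving elements of the normalizer centralises `P`. -/
theorem commutator_commute (hp : p.Prime) {g h : Perm α}
    (hg : g ∈ Subgroup.normalizer (P : Set (Perm α))) (hh : h ∈ Subgroup.normalizer (P : Set (Perm α)))
    (hgf : FixesOrbits P x g) (hhf : FixesOrbits P x h) {u : Perm α} (hu : u ∈ P) :
    Commute ⁅g, h⁆ u := by
  have hgN : ∀ v ∈ P, g * v * g⁻¹ ∈ P := fun v hv => (Subgroup.mem_normalizer_iff.1 hg v).1 hv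
  have hhN : ∀ v ∈ P, h * v * h⁻¹ ∈ P := fun v hv => (Subgroup.mem_normalizer_iff.1 hh v).1 hv
  have key : ∀ v ∈ P, g * (h * v * h⁻¹) * g⁻¹ = h * (g * v * g⁻¹) * h⁻¹ := by
    intro v hv
    ext e
    by_cases he : e ∈ Set.range x
    · rw [(D.mem_range_iff hp).1 he _ (hgN _ (hhN v hv)), (D.mem_range_iff hp).1 he _ (hhN _ (hgN v hv))]
    obtain ⟨a, ha⟩ := D.exists_scalar hp he hg
    obtain ⟨b, hb⟩ := D.exists_scalar hp he hh
    have ha' := ha (D.fixesOrbits_mem_orbit hgf he hp)
    have hb' := hb (D.fixesOrbits_mem_orbit hhf he hp)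
    have hme := mem_orbit_self (M := P) e
    rw [ha' _ (hhN v hv) e hme, hb' _ (hgN v hv) e hme, conj_pow, conj_pow]
    have e1 := hb' _ (P.pow_mem hv a) e hme
    have e2 := ha' _ (P.pow_mem hv b) e hme
    rw [e1, e2, ← pow_mul, ← pow_mul, mul_comm]
  have h1 := key (g⁻¹ * (h⁻¹ * u * h) * g) (by
    have := (Subgroup.mem_normalizer_iff''.1 hg (h⁻¹ * u * h)).1 ((Subgroup.mem_normalizer_iff''.1 hh u).1 hu)
    exact this)
  have h2 : g * h * g⁻¹ * h⁻¹ * u * (h * g * h⁻¹ * g⁻¹) = u := by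
    calc g * h * g⁻¹ * h⁻¹ * u * (h * g * h⁻¹ * g⁻¹)
        = g * (h * (g⁻¹ * (h⁻¹ * u * h) * g) * h⁻¹) * g⁻¹ := by group
      _ = h * (g * (g⁻¹ * (h⁻¹ * u * h) * g) * g⁻¹) * h⁻¹ := h1
      _ = u := by group
  rw [commutatorElement_def, Commute, SemiconjBy]
  calc g * h * g⁻¹ * h⁻¹ * u
      = g * h * g⁻¹ * h⁻¹ * u * (h * g * h⁻¹ * g⁻¹) * (g * h * g⁻¹ * h⁻¹) := by group
    _ = u * (g * h * g⁻¹ * h⁻¹) := by rw [h2]

/-- An orbit preserving element centralising `P` has `p`th power trivial outside the chosen points. -/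
theorem pow_apply_of_commute (hp : p.Prime) {c : Perm α} (hcf : FixesOrbits P x c)
    (hc : ∀ u ∈ P, Commute c u) {e : α} (he : e ∉ Set.range x) : (c ^ p) e = e := by
  obtain ⟨q, hq⟩ := hcf e he
  have h1 : ∀ n : ℕ, (c ^ n) e = ((q : Perm α) ^ n) e := by
    intro n
    induction n with
    | zero => rfl
    | succ n ih =>
      rw [pow_succ' c, Perm.mul_apply, ih, ← Perm.mul_apply, (hc _ (P.pow_mem q.2 n)).eq,
        Perm.mul_apply, pow_succ, Perm.mul_apply]
      exact congrArg _ hq.symm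
  rw [h1, D.pow_prime_apply hp he q.2]

/-- With at most three orbits and no cycle of length `p`, orbit preserving elements act as scalars. -/
theorem exists_global_scalar (hp : p.Prime)
    (hthree : ∀ a b c d, a ∉ Set.range x → b ∉ Set.range x → c ∉ Set.range x → d ∉ Set.range x →
      b ∉ orbit P a → c ∉ orbit P a → c ∉ orbit P b → d ∈ orbit P a ∨ d ∈ orbit P b ∨ d ∈ orbit P c)
    (hnocycle : ∀ u ∈ P, u.support.card ≠ p) {g : Perm α}
    (hg : g ∈ Subgroup.normalizer (P : Set (Perm α))) (hgf : FixesOrbits P x g) :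
    ∃ a : ℕ, ∀ u ∈ P, g * u * g⁻¹ = u ^ a := by
  classical
  have hgN : ∀ v ∈ P, g * v * g⁻¹ ∈ P := fun v hv => (Subgroup.mem_normalizer_iff.1 hg v).1 hv
  -- a scalar for each orbit
  have hsc : ∀ e, e ∉ Set.range x → ∃ a : ℕ, ∀ u ∈ P, Agree (orbit P e) (g * u * g⁻¹) (u ^ a) :=
    fun e he => let ⟨a, ha⟩ := D.exists_scalar hp he hg; ⟨a, ha (D.fixesOrbits_mem_orbit hgf he hp)⟩
  choose s hs using hsc
  -- a point moved by `u` outside two orbits
  have hthird : ∀ (a : α) (ha : a ∉ Set.range x) (u : Perm α), u ∈ P → u ≠ 1 → ∀ b, b ∉ Set.range x →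
      u b = b → b ∉ orbit P a → ∃ c, c ∉ Set.range x ∧ c ∉ orbit P a ∧ c ∉ orbit P b ∧ u c ≠ c := by
    intro a ha u hu hu1 b hb hub hba
    by_contra! hno
    refine hnocycle u hu ?_
    have hsub : (u.support : Set α) ⊆ orbit P a := by
      intro c hc
      have hc' : u c ≠ c := Perm.mem_support.1 hc
      have hcx : c ∉ Set.range x := fun h => hc' ((D.mem_range_iff hp).1 h u hu)
      by_contra hca
      by_cases hcb : c ∈ orbit P b
      · exact hc' (D.fix_orbit hp hb hu hub c hcb)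
      · exact hc' (hno c hcx hca hcb)
    have hmoves : u a ≠ a := by
      intro h
      obtain ⟨c, hc⟩ : u.support.Nonempty :=
        Finset.nonempty_iff_ne_empty.2 (fun h' => hu1 (Perm.support_eq_empty_iff.1 h'))
      exact Perm.mem_support.1 hc (D.fix_orbit hp ha hu h c (hsub hc))
    have heq : (u.support : Set α) = orbit P a := by
      refine Set.Subset.antisymm hsub fun c hc => ?_
      rw [Finset.mem_coe, Perm.mem_support]
      intro hfix
      have hc' : c ∉ Set.range x := by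
        intro h
        have := (orbit_eq_iff.2 hc).symm ▸ mem_orbit_self (M := P) a
        obtain ⟨q, hq⟩ := this
        exact ha (((D.mem_range_iff hp).1 h q q.2).symm.trans hq ▸ h)
      refine hmoves (D.fix_orbit hp hc' hu hfix a ?_)
      rw [orbit_eq_iff.2 hc]
      exact mem_orbit_self a
    rw [← Set.ncard_coe_finset, heq, D.orbit_card a ha]
  have hsame : ∀ e f (he : e ∉ Set.range x) (hf : f ∉ Set.range x), s e he ≡ s f hf [MOD p] := by
    intro e f he hf
    have hme := mem_orbit_self (M := P) e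
    have hmf := mem_orbit_self (M := P) f
    by_cases hsub : ∀ u ∈ P, u e = e → u f = f
    · obtain ⟨y, hy, hye⟩ := D.exists_moving hp hf
      have hye' : y e ≠ e := fun h => hye (hsub y hy h)
      have hz : ((y ^ s e he)⁻¹ * (g * y * g⁻¹)) e = e := by
        rw [Perm.mul_apply, hs e he y hy e hme]; simp
      have hzf := hsub _ (P.mul_mem (P.inv_mem (P.pow_mem hy _)) (hgN y hy)) hz
      rw [Perm.mul_apply, Perm.inv_eq_iff_eq, hs f hf y hy f hmf] at hzf
      exact (D.modEq_of_pow_apply_eq hp hy hye hzf).symm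
    by_cases hsub' : ∀ u ∈ P, u f = f → u e = e
    · obtain ⟨y, hy, hye⟩ := D.exists_moving hp he
      have hye' : y f ≠ f := fun h => hye (hsub' y hy h)
      have hz : ((y ^ s f hf)⁻¹ * (g * y * g⁻¹)) f = f := by
        rw [Perm.mul_apply, hs f hf y hy f hmf]; simp
      have hze := hsub' _ (P.mul_mem (P.inv_mem (P.pow_mem hy _)) (hgN y hy)) hz
      rw [Perm.mul_apply, Perm.inv_eq_iff_eq, hs e he y hy e hme] at hze
      exact D.modEq_of_pow_apply_eq hp hy hye hze
    push Not at hsub hsub'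
    obtain ⟨u, hu, hue, huf⟩ := hsub
    obtain ⟨v, hv, hvf, hve⟩ := hsub'
    have hef : e ∉ orbit P f := fun h => huf (by
      have hfe : f ∈ orbit P e := by rw [orbit_eq_iff.2 h]; exact mem_orbit_self f
      exact D.fix_orbit hp he hu hue f hfe)
    have hfe : f ∉ orbit P e := fun h => hef (by rw [orbit_eq_iff.2 h]; exact mem_orbit_self e)
    have hu1 : u ≠ 1 := fun h => huf (by rw [h]; rfl)
    have hv1 : v ≠ 1 := fun h => hve (by rw [h]; rfl)
    obtain ⟨c, hc, hcf, hce, huc⟩ := hthird f hf u hu hu1 e he hue hef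
    obtain ⟨d, hd, hde, hdf, hvd⟩ := hthird e he v hv hv1 f hf hvf hfe
    have hdc : d ∈ orbit P c := ((hthree e f c d he hf hc hd hfe hce hcf).resolve_left hde).resolve_left hdf
    have hvc : v c ≠ c := fun h => hvd (D.fix_orbit hp hc hv h d hdc)
    -- the scalar seen through an element killing one orbit
    have transfer : ∀ (w : Perm α) (a b : α) (ha : a ∉ Set.range x) (hb : b ∉ Set.range x), w ∈ P →
        w a = a → w b ≠ b → w c ≠ c → b ∉ orbit P a → c ∉ orbit P a → c ∉ orbit P b →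
        s c hc ≡ s b hb [MOD p] := by
      intro w a b ha hb hw hwa hwb hwc hba hca hcb
      set z := (w ^ s b hb)⁻¹ * (g * w * g⁻¹) with hz
      have hzP : z ∈ P := P.mul_mem (P.inv_mem (P.pow_mem hw _)) (hgN w hw)
      have hzb : z b = b := by
        rw [hz, Perm.mul_apply, hs b hb w hw b (mem_orbit_self b)]; simp
      have hza : z a = a := by
        rw [hz, Perm.mul_apply, hs a ha w hw a (mem_orbit_self a), Perm.inv_eq_iff_eq]
        rw [Perm.pow_apply_eq_self_of_apply_eq_self hwa, Perm.pow_apply_eq_self_of_apply_eq_self hwa]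
      have hzc : z c = c := by
        by_contra hne
        have hz1 : z ≠ 1 := fun h => hne (by rw [h]; rfl)
        obtain ⟨d', hd', hd'c, hd'a, hzd'⟩ := hthird c hc z hzP hz1 a ha hza (fun h => hca (by
          rw [orbit_eq_iff.2 h]; exact mem_orbit_self c))
        rcases hthree a b c d' ha hb hc hd' hba hca hcb with h | h | h
        · exact hd'a h
        · exact hzd' (D.fix_orbit hp hb hzP hzb d' h)
        · exact hd'c h
      rw [hz, Perm.mul_apply, Perm.inv_eq_iff_eq, hs c hc w hw c (mem_orbit_self c)] at hzc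
      exact D.modEq_of_pow_apply_eq hp hw hwc hzc
    exact (transfer v f e hf he hv hvf hve hvc hef hcf hce).symm.trans
      (transfer u e f he hf hu hue huf huc hfe hce hcf)
  by_cases hall : ∃ e, e ∉ Set.range x
  · obtain ⟨e, he⟩ := hall
    refine ⟨s e he, fun u hu => ?_⟩
    ext f
    by_cases hf : f ∈ Set.range x
    · rw [(D.mem_range_iff hp).1 hf _ (hgN u hu), (D.mem_range_iff hp).1 hf _ (P.pow_mem hu _)]
    · rw [hs f hf u hu f (mem_orbit_self f), D.pow_eq_of_modEq hp hu (hsame e f he hf)]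
  · push Not at hall
    refine ⟨0, fun u hu => ?_⟩
    ext f
    rw [(D.mem_range_iff hp).1 (hall f) _ (hgN u hu), pow_zero]
    rfl

end Datum

/-- In a small symmetric group a nontrivial normal subgroup gives the standard element by commutators. -/
theorem small_three : ∀ σ : Perm (Fin 3), σ ≠ 1 → ∃ τ : Perm (Fin 3),
    ⁅σ, τ⁆ = swap 0 1 * swap 1 2 ∨ ⁅σ, τ⁆⁻¹ = swap 0 1 * swap 1 2 := by decide +kernel

theorem small_four : ∀ σ : Perm (Fin 4), σ ≠ 1 → ∃ τ υ : Perm (Fin 4),
    ⁅⁅σ, τ⁆, υ⁆ = swap 0 1 * swap 2 3 := by decide +kernel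

end CfsgLib.Miller
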